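import Cfsg.Agent.Lib.Golay.CodeSplit.Check
import Cfsg.Agent.Lib.Golay.CocodeUnique.Data

/-!
The computable checks on the data showing that the tails of an extension by the cocode are fixed by
one bit.
-/

set_option autoImplicit false

namespace CfsgLib.Golay.CocodeUnique

open CfsgLib.Golay CfsgLib.Golay.SylowTwo
open CfsgLib.Golay.CodeSplit (pcs basisM pivot xorL selL pos invW reduce)

/-- all permutations named by letters -/
def perms : List ℕ := pcs ++ extra

/-- the permutation named by a letter -/
def prm (k : ℕ) : ℕ := perms.getD k idP

/-- the permutation of a word -/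
def evP : List ℕ → ℕ
  | [] => idP
  | k :: w => mulP (prm k) (evP w)

/-- the relation with a number -/
def relAt (r : ℕ) : List ℕ × List ℕ := rels.getD r ([], [])

/-- the preimage of a mask -/
def pull (P m : ℕ) : ℕ :=
  xorL (fun k => if m.testBit (ap P k) then 2 ^ k else 0) (List.range 24)

/-- the mask is the combination of the basis prescribed by its pivot bits -/
def inB (m : ℕ) : Bool :=
  xorL (fun j => if m.testBit (pivot j) then basisM.getD j 0 else 0) (List.range 11) == m

/-- the pairing with a mask as a combination of the coordinates of block `r` -/
def colM (m r : ℕ) : ℕ :=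
  xorL (fun j => if m.testBit (pivot j) then 2 ^ (11 * r + j) else 0) (List.range 11)

/-- the word of a term -/
def termW (t : Bool × List ℕ × ℕ) : List (ℕ × Bool) :=
  let c := pos t.2.1 ++ pos (relAt t.2.2).1 ++ invW (pos (relAt t.2.2).2) ++ invW (pos t.2.1)
  if t.1 then invW c else c

/-- the row of a term of an identity -/
def termRow (i : ℕ) (t : Bool × List ℕ × ℕ) : ℕ :=
  colM (pull (evP t.2.1) (basisM.getD i 0)) t.2.2

/-- the row of an equation -/
def eqRow (e : ℕ × ℕ) : ℕ := xorL (termRow e.2) (idents.getD e.1 [])

/-- the rows of all equations -/
def eqRows : List ℕ := eqns.map eqRow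

/-- the change of a pairing with a word under a change of lifts -/
def dRow : ℕ → List ℕ → ℕ
  | _, [] => 0
  | m, k :: w => (if k < 7 then colM m k else 0) ^^^ dRow (pull (prm k) m) w

/-- the masks used by `dRow` are combinations of the basis -/
def dOK : ℕ → List ℕ → Bool
  | m, [] => inB m
  | m, k :: w => inB m && dOK (pull (prm k) m) w

/-- check of the permutations and relations -/
def relsOK : Bool :=
  (perms.all fun P => inM24 P && ap P 23 == 23) && decide (7 ≤ perms.length) &&
    decide (28 ≤ rels.length) &&
    (List.range 28).all (fun r => relAt r == CodeSplit.relAt r) &&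
    rels.all fun r => r.1.all (fun k => decide (k < perms.length)) &&
      r.2.all (fun k => decide (k < perms.length)) && eqP (evP r.1) (evP r.2)

/-- check of the identities -/
def identsOK : Bool :=
  idents.all fun I =>
    (reduce (I.flatMap termW)).isEmpty && I.all fun t =>
      decide (t.2.2 < rels.length) && t.2.1.all (fun k => decide (k < perms.length))

/-- check that the masks of the equations are combinations of the basis -/
def eqnsOK : Bool :=
  eqns.all fun e => decide (e.1 < idents.length) && decide (e.2 < 11) &&
    (idents.getD e.1 []).all fun t => inB (pull (evP t.2.1) (basisM.getD e.2 0))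

/-- check of the normalisation -/
def shiftOK : Bool :=
  (List.range 28).all (fun r => (List.range 11).all fun i =>
    dOK (basisM.getD i 0) (relAt r).1 && dOK (basisM.getD i 0) (relAt r).2 &&
      (!(pivMask.testBit (11 * r + i)) ||
        selL shiftRows (dRow (basisM.getD i 0) (relAt r).1 ^^^ dRow (basisM.getD i 0) (relAt r).2)
          == 2 ^ (11 * r + i)))
    && shiftRows.length == 77 && decide (pivMask < 2 ^ 308)

/-- check of the certificates -/
def certsOK : Bool :=
  decide (free < 308) && (List.range 308).all fun v => pivMask.testBit v || v == free ||
    (selL eqRows (certs.getD v 0) ^^^ 2 ^ v) &&& (pivMask ||| 2 ^ free) ==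
      (selL eqRows (certs.getD v 0) ^^^ 2 ^ v)

theorem rels_ok : relsOK = true := by decide +kernel

theorem idents_ok : identsOK = true := by decide +kernel

theorem eqns_ok : eqnsOK = true := by decide +kernel

theorem shift_ok : shiftOK = true := by decide +kernel

theorem certs_ok : certsOK = true := by decide +kernel

end CfsgLib.Golay.CocodeUnique
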