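import Cfsg.Agent.Lib.Golay.CocodeUnique.Check
import Cfsg.Agent.Lib.Golay.CodeSplit.Core
import Cfsg.Agent.Lib.Golay.Cocode.Module

/-!
Coordinates on a kernel that is a quotient of the words by the code and the extra point: pairings
with the code words vanishing at that point.
-/

set_option autoImplicit false

namespace CfsgLib.Golay.CocodeUnique

open Cfsg CfsgLib.Golay
open CfsgLib.Golay.Cocode (Word dot dot_add_left dot_add_right dot_eq_zero mem_of_orth one_mem)
open CfsgLib.Golay.CodeSplit (basisM pivot xorL InM comb2 sig sig_eq_one expand pivot_lt list_range_sum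
  wd_xorL wd_pt pt23)

theorem wd_pull {P : ℕ} (hP : validP P = true) (m : ℕ) (q : GolayPt) :
    wd (pull P m) q = wd m (toPerm P q) := by
  rw [pull, wd_xorL, list_range_sum, Finset.sum_eq_single (idx q)]
  · conv_rhs => rw [wd, idx_toPerm hP]
    split <;> simp [wd]
  · intro k _ hk
    split
    · simp [wd, Nat.testBit_two_pow, hk]
    · simp [wd_zero]
  · intro h; exact absurd (Finset.mem_range.2 (idx_lt q)) h

theorem inM_basis (j : ℕ) : InM (wd (basisM.getD j 0)) := by
  have hb := CodeSplit.basis_ok
  simp only [CodeSplit.basisOK, Bool.and_eq_true, List.all_eq_true, Bool.not_eq_true'] at hb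
  by_cases hj : j < basisM.length
  · rw [List.getD_eq_getElem _ _ hj]
    obtain ⟨h1, h2⟩ := hb.1.2 _ (List.getElem_mem hj)
    refine ⟨wd_mem_of_inC h1, ?_⟩
    rw [← pt23, wd_pt _ (by norm_num), h2]
    simp
  · rw [List.getD_eq_default _ _ (not_lt.1 hj), wd_zero]
    exact ⟨Submodule.zero_mem _, rfl⟩

theorem testBit_basis {i j : ℕ} (hi : i < 11) (hj : j < 11) :
    (basisM.getD j 0).testBit (pivot i) = (i == j) := by
  have hb := CodeSplit.basis_ok
  simp only [CodeSplit.basisOK, Bool.and_eq_true, List.all_eq_true, beq_iff_eq] at hb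
  exact (hb.1.1 i (List.mem_range.2 hi)).2 j (List.mem_range.2 hj)

theorem inB_basis {i : ℕ} (hi : i < 11) : inB (basisM.getD i 0) = true := by
  have h : ∀ k < 11, inB (basisM.getD k 0) = true := by decide +kernel
  exact h i hi

theorem wd_inB {m : ℕ} (h : inB m = true) :
    wd m = ∑ j ∈ Finset.range 11, if m.testBit (pivot j) then wd (basisM.getD j 0) else 0 := by
  conv_lhs => rw [← beq_iff_eq.1 h]
  funext p
  rw [wd_xorL, list_range_sum, Finset.sum_apply]
  refine Finset.sum_congr rfl fun j _ => ?_
  split <;> simp [wd_zero]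

theorem inM_inB {m : ℕ} (h : inB m = true) : InM (wd m) := by
  rw [wd_inB h]
  refine ⟨Submodule.sum_mem _ fun j _ => ?_, ?_⟩
  · split
    · exact (inM_basis j).1
    · exact Submodule.zero_mem _
  · rw [Finset.sum_apply]
    refine Finset.sum_eq_zero fun j _ => ?_
    split
    · exact (inM_basis j).2
    · rfl

theorem dot_orth {v w : Word} (hv : v ∈ golayCode) (hw : w ∈ golayCode) : dot v w = 0 :=
  dot_eq_zero hv hw

theorem zmod2_eq_of_add : ∀ a b : ZMod 2, a + b = 0 → b = a := by decide

section Ext

attribute [local irreducible] dot wd pull inB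

variable {E : Type*} [Group E] {N : Subgroup E} [N.Normal]

/-- The hypotheses on the extension. -/
structure Hyp (N : Subgroup E) [N.Normal] (φ : E ⧸ N ≃* ↥Spor.M23)
    (θ : Word →+ Additive ↥N) : Prop where
  surj : Function.Surjective θ
  ker : ∀ w : Word, θ w = 0 ↔ (w ∈ golayCode ∨ w + Pi.single none 1 ∈ golayCode)
  conj : ∀ (g : E) (w : Word),
    ((θ (w ∘ ⇑((sig N φ g)⁻¹))).toMul : E) = g * ((θ w).toMul : E) * g⁻¹

/-- the element of a word -/
def el (θ : Word →+ Additive ↥N) (w : Word) : E := ((θ w).toMul : E)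

/-- a word of an element of the kernel -/
noncomputable def wrd (θ : Word →+ Additive ↥N) (x : E) : Word := Function.invFun (el θ) x

/-- the pairing of an element of the kernel with a mask -/
noncomputable def pair (θ : Word →+ Additive ↥N) (m : ℕ) (x : E) : ZMod 2 :=
  dot (wd m) (wrd θ x)

variable {φ : E ⧸ N ≃* ↥Spor.M23} {θ : Word →+ Additive ↥N}

theorem el_mem (w : Word) : el θ w ∈ N := (θ w).toMul.2

theorem el_add (v w : Word) : el θ (v + w) = el θ v * el θ w := by
  rw [el, el, el, map_add, toMul_add]; rfl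

theorem el_zero : el θ 0 = 1 := by rw [el, map_zero]; rfl

theorem el_eq_one {w : Word} : el θ w = 1 ↔ θ w = 0 := by
  constructor
  · intro h
    exact Additive.toMul.injective (Subtype.ext h)
  · intro h; rw [el, h]; rfl

variable (H : Hyp N φ θ)

include H in
theorem exists_word {x : E} (hx : x ∈ N) : ∃ w, el θ w = x := by
  obtain ⟨w, hw⟩ := H.surj (Additive.ofMul ⟨x, hx⟩)
  exact ⟨w, by rw [el, hw]; rfl⟩

include H in
theorem el_wrd {x : E} (hx : x ∈ N) : el θ (wrd θ x) = x := Function.invFun_eq (exists_word H hx)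

include H in
theorem pair_el {m : ℕ} (hm : inB m = true) (w : Word) : pair θ m (el θ w) = dot (wd m) w := by
  have h0 : el θ (w + wrd θ (el θ w)) = 1 := by
    rw [el_add, el_wrd H (el_mem w), ← el_add,
      show w + w = 0 from funext fun p => CharTwo.add_self_eq_zero _, el_zero]
  have hz : dot (wd m) (w + wrd θ (el θ w)) = 0 := by
    rcases (H.ker _).1 (el_eq_one.1 h0) with h | h
    · exact dot_orth (inM_inB hm).1 h
    · have h1 : dot (wd m) (w + wrd θ (el θ w) + Pi.single none 1) = 0 :=
        dot_orth (inM_inB hm).1 h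
      have e1 : dot (wd m) (Pi.single none 1) = wd m none := by simp [dot, Pi.single_apply]
      rwa [dot_add_right, e1, (inM_inB hm).2, add_zero] at h1
  rw [dot_add_right] at hz
  rw [pair]
  exact zmod2_eq_of_add _ _ hz

include H in
theorem pair_one {m : ℕ} (hm : inB m = true) : pair θ m 1 = 0 := by
  rw [← el_zero (θ := θ), pair_el H hm]; simp [dot]

include H in
theorem pair_mul {m : ℕ} (hm : inB m = true) {x y : E} (hx : x ∈ N) (hy : y ∈ N) :
    pair θ m (x * y) = pair θ m x + pair θ m y := by
  have h : x * y = el θ (wrd θ x + wrd θ y) := by rw [el_add, el_wrd H hx, el_wrd H hy]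
  rw [h, pair_el H hm, dot_add_right, pair, pair]

include H in
theorem pair_inv {m : ℕ} (hm : inB m = true) {x : E} (hx : x ∈ N) :
    pair θ m x⁻¹ = pair θ m x := by
  have h := pair_mul H hm (inv_mem hx) hx
  rw [inv_mul_cancel, pair_one H hm] at h
  exact (show ∀ a b : ZMod 2, 0 = a + b → a = b by decide) _ _ h

include H in
/-- Conjugation by an element over a known permutation pulls the mask back. -/
theorem pair_conj {m P : ℕ} (hm : inB m = true) (hP : validP P = true) (g : E) {x : E}
    (hx : x ∈ N) (hg : sig N φ g = toPerm P) :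
    pair θ m (g * x * g⁻¹) = pair θ (pull P m) x := by
  have h : g * x * g⁻¹ = el θ (wrd θ x ∘ ⇑((sig N φ g)⁻¹)) := by
    have h2 := el_wrd H hx
    have h3 := H.conj g (wrd θ x)
    simp only [el] at h2 ⊢
    rw [h2] at h3
    exact h3.symm
  rw [h, pair_el H hm, hg, pair]
  simp only [dot]
  refine ((Equiv.sum_comp (toPerm P)
    (fun q => wd m q * (wrd θ x ∘ ⇑((toPerm P)⁻¹)) q)).symm).trans ?_
  exact Finset.sum_congr rfl fun q _ => by simp [wd_pull hP]

/-- the pairing with the `j`-th basis word -/
noncomputable def co (θ : Word →+ Additive ↥N) (j : ℕ) (x : E) : ZMod 2 :=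
  pair θ (basisM.getD j 0) x

theorem pair_expand {m : ℕ} (hm : inB m = true) (x : E) :
    pair θ m x = ∑ j ∈ Finset.range 11, if m.testBit (pivot j) then co θ j x else 0 := by
  simp only [pair, co, wd_inB hm, dot, Finset.sum_apply, Finset.sum_mul]
  rw [Finset.sum_comm]
  refine Finset.sum_congr rfl fun j _ => ?_
  split <;> simp

theorem comb2_colM {m V r : ℕ} (hm : inB m = true) (z : ℕ → ZMod 2) {x : E}
    (hV : 11 * r + 11 ≤ V) (hz : ∀ j < 11, z (11 * r + j) = co θ j x) :
    comb2 V z (colM m r) = pair θ m x := by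
  rw [colM, CodeSplit.comb2_xorL, list_range_sum, pair_expand hm]
  refine Finset.sum_congr rfl fun j hj => ?_
  have hj' := Finset.mem_range.1 hj
  split
  · rw [CodeSplit.comb2_two_pow z (by omega), hz j hj']
  · exact CodeSplit.comb2_zero _ _

include H in
theorem eq_one_of_co {x : E} (hx : x ∈ N) (h : ∀ j < 11, co θ j x = 0) : x = 1 := by
  set w := wrd θ x with hw
  rw [← el_wrd H hx, el_eq_one, H.ker]
  have hB : ∀ v : Word, InM v → dot v w = 0 := by
    intro v hv
    have hexp : v = ∑ j ∈ Finset.range 11, v (pt (pivot j)) • wd (basisM.getD j 0) := by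
      funext p
      conv_lhs => rw [← pt_idx p, expand hv (idx_lt p)]
      rw [Finset.sum_apply]
      refine Finset.sum_congr rfl fun j _ => ?_
      simp only [Pi.smul_apply, wd, smul_eq_mul]
      split <;> simp
    rw [hexp]
    simp only [dot, Finset.sum_apply, Finset.sum_mul, Pi.smul_apply, smul_eq_mul, mul_assoc]
    rw [Finset.sum_comm]
    refine Finset.sum_eq_zero fun j hj => ?_
    rw [← Finset.mul_sum]
    have := h j (Finset.mem_range.1 hj)
    simp only [co, pair, dot, ← hw] at this
    rw [this, mul_zero]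
  have e1 : ∀ (v : Word) (c : ZMod 2), dot v (c • (Pi.single none 1 : Word)) = c * v none :=
    fun v c => by simp [dot, Pi.single_apply, mul_comm]
  have hm : w + dot 1 w • (Pi.single none 1 : Word) ∈ golayCode := by
    refine mem_of_orth fun v => ?_
    have hv : InM (v.1 + v.1 none • (1 : Word)) := by
      refine ⟨Submodule.add_mem _ v.2 (Submodule.smul_mem _ _ one_mem), ?_⟩
      simp [CharTwo.add_self_eq_zero]
    have h0 := hB _ hv
    have e2 : dot (v.1 none • (1 : Word)) w = v.1 none * dot 1 w := by
      simp [dot, Finset.mul_sum, mul_add]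
    rw [dot_add_left, e2] at h0
    rw [dot_add_right, e1]
    linear_combination h0
  rcases (show ∀ c : ZMod 2, c = 0 ∨ c = 1 by decide) (dot 1 w) with hc | hc
  · left; simpa [hc] using hm
  · right; rwa [hc, one_smul] at hm

include H in
theorem exists_co (c : ℕ → ZMod 2) : ∃ x ∈ N, ∀ j < 11, co θ j x = c j := by
  let w : Word := ∑ i ∈ Finset.range 11, c i • (Pi.single (pt (pivot i)) 1 : Word)
  refine ⟨el θ w, el_mem w, fun j hj => ?_⟩
  rw [co, pair_el H (inB_basis hj), dot]
  simp only [w, Finset.sum_apply, Pi.smul_apply, smul_eq_mul, Finset.mul_sum]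
  rw [Finset.sum_comm, Finset.sum_eq_single j]
  · have hb := testBit_basis hj hj
    have hp : pivot j < 24 := by have := pivot_lt hj; omega
    simp only [Pi.single_apply, mul_ite, mul_one, mul_zero, Finset.sum_ite_eq', Finset.mem_univ,
      if_true, wd_pt _ hp, hb, beq_self_eq_true]
    simp
  · intro i hi hne
    have hi' := Finset.mem_range.1 hi
    have hb := testBit_basis hi' hj
    have hp : pivot i < 24 := by have := pivot_lt hi'; omega
    simp only [Pi.single_apply, mul_ite, mul_one, mul_zero, Finset.sum_ite_eq', Finset.mem_univ,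
      if_true, wd_pt _ hp, hb]
    simp [hne]
  · intro h; exact absurd (Finset.mem_range.2 hj) h

end Ext

end CfsgLib.Golay.CocodeUnique
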