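import Cfsg.Agent.Lib.Golay.CocodeUnique.Split

/-!
Two extensions of the point stabiliser by the cocode without complements are isomorphic: their
difference extension splits.
-/

set_option autoImplicit false

namespace CfsgLib.Golay.CocodeUnique

open Cfsg CfsgLib.Golay CfsgLib.Golay.SylowTwo
open CfsgLib.Golay.Cocode (Word)
open CfsgLib.Golay.CodeSplit (pcs sig sig_eq_one evE comb2)

attribute [local irreducible] idP toPerm mulP validP pull inB

theorem card_word : Nat.card Word = 2 ^ 24 := by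
  rw [Nat.card_fun, Nat.card_zmod, Nat.card_eq_fintype_card]
  simp [GolayPt, Fintype.card_option, ZMod.card]

theorem comm_card_of_surj {D : Type*} [Group D] (M : Subgroup D) (f : Word → D)
    (hadd : ∀ v w, f (v + w) = f v * f w) (hmem : ∀ w, f w ∈ M)
    (hsurj : ∀ x ∈ M, ∃ w, f w = x) : IsMulCommutative M ∧ Nat.card M ∣ 2 ^ 24 := by
  let g : Multiplicative Word →* M := MonoidHom.mk' (fun w => ⟨f w.toAdd, hmem _⟩)
    fun v w => Subtype.ext (hadd _ _)
  have hg : Function.Surjective g := fun x => by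
    obtain ⟨w, hw⟩ := hsurj x x.2
    exact ⟨Multiplicative.ofAdd w, Subtype.ext hw⟩
  refine ⟨⟨⟨fun a b => ?_⟩⟩, ?_⟩
  · obtain ⟨v, rfl⟩ := hg a
    obtain ⟨w, rfl⟩ := hg b
    rw [← map_mul, ← map_mul, mul_comm]
  · have h := Subgroup.card_dvd_of_surjective g hg
    rwa [Nat.card_congr Multiplicative.toAdd, card_word] at h

section One

variable {E : Type*} [Group E] {N : Subgroup E} [N.Normal] {φ : E ⧸ N ≃* ↥Spor.M23}
  {θ : Word →+ Additive ↥N} (H : Hyp N φ θ)

theorem ker_sig : (sig N φ).ker = N := by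
  ext x; rw [MonoidHom.mem_ker, sig_eq_one]

theorem range_sig : (sig N φ).range = Spor.M23 := by
  ext g
  constructor
  · rintro ⟨x, rfl⟩; exact (φ (QuotientGroup.mk x)).2
  · intro hg
    obtain ⟨x, hx⟩ := (φ.surjective.comp (QuotientGroup.mk'_surjective N)) ⟨g, hg⟩
    exact ⟨x, congrArg Subtype.val hx⟩

theorem sig_lift {e : ℕ → E} (he : Lifts φ e) {k : ℕ} (hk : k < 7) :
    sig N φ (e k) = toPerm (pcs.getD k idP) := by
  rw [he k (lt_of_lt_of_le hk seven_le), prm_pcs hk]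

include H in
theorem free_eq_one [Finite E] (hns : ∀ K : Subgroup E, K ⊓ N = ⊥ → K ⊔ N ≠ ⊤) {e : ℕ → E}
    (he : Normal' φ θ e) : xs θ e free = 1 := by
  rcases (show ∀ c : ZMod 2, c = 0 ∨ c = 1 by decide) (xs θ e free) with hc | hc
  · exfalso
    have hz := eq_zero_of_free (fun q hq => eq_zero H he.lifts hq) he.piv hc
    have ht : ∀ r < 28, CodeSplit.tail e r = 1 := by
      intro r hr
      rw [tail_old e hr]
      refine eq_one_of_co H (tail_mem he.lifts (lt_of_lt_of_le hr rels_length)) fun j hj => ?_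
      rw [← xs_at θ e r hj]
      exact hz _ (by omega)
    obtain ⟨hcomm, hcard⟩ := comm_card_of_surj (sig N φ).ker (el θ) el_add
      (fun w => by rw [ker_sig]; exact el_mem w)
      (fun x hx => exists_word H (by rwa [ker_sig] at hx))
    haveI := hcomm
    obtain ⟨K, hK1, hK2⟩ := split_of_tails (sig N φ) range_sig hcard
      (fun k hk => sig_lift he.lifts hk) ht
    rw [ker_sig] at hK1 hK2
    exact hns K hK1 hK2
  · exact hc

end One

section Two

variable {E : Type*} [Group E] [Finite E] {N : Subgroup E} [N.Normal] {φ : E ⧸ N ≃* ↥Spor.M23}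
  {θ : Word →+ Additive ↥N}
  {E' : Type*} [Group E'] [Finite E'] {N' : Subgroup E'} [N'.Normal]
  {φ' : E' ⧸ N' ≃* ↥Spor.M23} {θ' : Word →+ Additive ↥N'}
  (H : Hyp N φ θ) (H' : Hyp N' φ' θ')

/-- pairs over the same permutation -/
def fib (φ : E ⧸ N ≃* ↥Spor.M23) (φ' : E' ⧸ N' ≃* ↥Spor.M23) : Subgroup (E × E') :=
  ((sig N φ).comp (MonoidHom.fst E E')).eqLocus ((sig N' φ').comp (MonoidHom.snd E E'))

theorem mem_fib {q : E × E'} : q ∈ fib φ φ' ↔ sig N φ q.1 = sig N' φ' q.2 := Iff.rfl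

include H H' in
theorem el'_eq_one {w : Word} (h : el θ w = 1) : el θ' w = 1 :=
  el_eq_one.2 ((H'.ker w).2 ((H.ker w).1 (el_eq_one.1 h)))

include H H' in
theorem exists_iso (hns : ∀ K : Subgroup E, K ⊓ N = ⊥ → K ⊔ N ≠ ⊤)
    (hns' : ∀ K : Subgroup E', K ⊓ N' = ⊥ → K ⊔ N' ≠ ⊤) : Nonempty (E ≃* E') := by
  classical
  obtain ⟨e, he⟩ := exists_normal H
  obtain ⟨e', he'⟩ := exists_normal H'
  have hdiff : ∀ v < 308, xs θ e v + xs θ' e' v = 0 := by
    refine eq_zero_of_free (fun q hq => ?_) (fun v hv => ?_) ?_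
    · rw [comb2_add, eq_zero H he.lifts hq, eq_zero H' he'.lifts hq, add_zero]
    · rw [he.piv v hv, he'.piv v hv, add_zero]
    · rw [free_eq_one H hns he, free_eq_one H' hns' he']; decide
  have htail : ∀ r < 28, ∃ w, el θ w = tail e r ∧ el θ' w = tail e' r := by
    intro r hr
    have hrl := lt_of_lt_of_le hr rels_length
    obtain ⟨w, hw⟩ := exists_word H (tail_mem he.lifts hrl)
    refine ⟨w, hw, ?_⟩
    have hm := el_mem (θ := θ') w
    have hT := tail_mem he'.lifts hrl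
    have h1 : el θ' w * (tail e' r)⁻¹ = 1 := by
      refine eq_one_of_co H' (mul_mem hm (inv_mem hT)) fun j hj => ?_
      rw [co, pair_mul H' (inB_basis hj) hm (inv_mem hT), pair_inv H' (inB_basis hj) hT,
        pair_el H' (inB_basis hj), ← pair_el H (inB_basis hj), hw]
      show co θ j (tail e r) + co θ' j (tail e' r) = 0
      rw [← xs_at θ e r hj, ← xs_at θ' e' r hj]
      exact hdiff _ (by omega)
    exact mul_inv_eq_one.1 h1
  -- the pairs of equal words
  have hsame : ∀ w, (el θ w, el θ' w) ∈ fib φ φ' := fun w => by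
    rw [mem_fib, sig_eq_one.2 (el_mem w), sig_eq_one.2 (el_mem w)]
  let dg : Multiplicative Word →* fib φ φ' :=
    MonoidHom.mk' (fun w => ⟨(el θ w.toAdd, el θ' w.toAdd), hsame _⟩)
      fun v w => Subtype.ext (Prod.ext (el_add _ _) (el_add _ _))
  let K₀ : Subgroup (fib φ φ') := dg.range
  haveI : K₀.Normal := ⟨by
    rintro _ ⟨w, rfl⟩ g
    refine ⟨Multiplicative.ofAdd (w.toAdd ∘ ⇑((sig N φ g.1.1)⁻¹)), Subtype.ext (Prod.ext ?_ ?_)⟩
    · exact H.conj _ _
    · show el θ' (w.toAdd ∘ ⇑((sig N φ g.1.1)⁻¹)) = _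
      rw [mem_fib.1 g.2]
      exact H'.conj _ _⟩
  let sP : fib φ φ' →* Equiv.Perm GolayPt :=
    (sig N φ).comp ((MonoidHom.fst E E').comp (fib φ φ').subtype)
  have hK₀ : K₀ ≤ sP.ker := by
    rintro _ ⟨w, rfl⟩
    exact sig_eq_one.2 (el_mem _)
  let s : fib φ φ' ⧸ K₀ →* Equiv.Perm GolayPt := QuotientGroup.lift K₀ sP hK₀
  have hmk : ∀ q, s (QuotientGroup.mk q) = sP q := fun q => rfl
  have hover : ∀ a : E, ∃ b : E', (a, b) ∈ fib φ φ' := by
    intro a
    have h : sig N φ a ∈ (sig N' φ').range := by rw [range_sig, ← range_sig (φ := φ)]; exact ⟨a, rfl⟩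
    obtain ⟨b, hb⟩ := h
    exact ⟨b, hb.symm⟩
  have hover' : ∀ b : E', ∃ a : E, (a, b) ∈ fib φ φ' := by
    intro b
    have h : sig N' φ' b ∈ (sig N φ).range := by rw [range_sig, ← range_sig (φ := φ')]; exact ⟨b, rfl⟩
    obtain ⟨a, ha⟩ := h
    exact ⟨a, ha⟩
  have hrange : s.range = Spor.M23 := by
    refine le_antisymm ?_ ?_
    · rintro _ ⟨x, rfl⟩
      obtain ⟨q, rfl⟩ := QuotientGroup.mk_surjective x
      rw [← range_sig (φ := φ)]; exact ⟨q.1.1, rfl⟩
    · rw [← range_sig (φ := φ)]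
      rintro _ ⟨a, rfl⟩
      obtain ⟨b, hb⟩ := hover a
      exact ⟨QuotientGroup.mk ⟨(a, b), hb⟩, rfl⟩
  have hl : ∀ w, (el θ w, (1 : E')) ∈ fib φ φ' := fun w => by
    rw [mem_fib, sig_eq_one.2 (el_mem w), map_one]
  let left : Word → fib φ φ' ⧸ K₀ := fun w => QuotientGroup.mk ⟨(el θ w, 1), hl w⟩
  have hsurj : ∀ x ∈ s.ker, ∃ w, left w = x := by
    intro x hx
    obtain ⟨⟨⟨a, b⟩, hab⟩, rfl⟩ := QuotientGroup.mk_surjective x
    have ha : sig N φ a = 1 := hx
    obtain ⟨v, hv⟩ := exists_word H (sig_eq_one.1 ha)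
    have hb : sig N' φ' b = 1 := by rw [← mem_fib.1 hab]; exact ha
    obtain ⟨u, hu⟩ := exists_word H' (sig_eq_one.1 hb)
    refine ⟨v + u, ?_⟩
    refine QuotientGroup.eq.2 ⟨Multiplicative.ofAdd u, Subtype.ext (Prod.ext ?_ ?_)⟩
    · show el θ u = (el θ (v + u))⁻¹ * a
      rw [el_add, mul_inv_rev, hv, inv_mul_cancel_right]
      refine eq_inv_of_mul_eq_one_left ?_
      rw [← el_add, show u + u = 0 from funext fun p => CharTwo.add_self_eq_zero _, el_zero]
    · show el θ' u = (1 : E')⁻¹ * b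
      rw [hu, inv_one, one_mul]
  obtain ⟨hcomm, hcard⟩ := comm_card_of_surj s.ker left
    (fun v w => congrArg QuotientGroup.mk (Subtype.ext (Prod.ext (el_add v w) (mul_one 1).symm)))
    (fun w => sig_eq_one.2 (el_mem w)) hsurj
  haveI := hcomm
  have hmem : ∀ k, (if k < perms.length then (e k, e' k) else 1) ∈ fib φ φ' := by
    intro k
    split
    · rename_i hk; rw [mem_fib, he.lifts k hk, he'.lifts k hk]
    · exact one_mem _
  let q : ℕ → fib φ φ' := fun k => ⟨_, hmem k⟩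
  let d : ℕ → fib φ φ' ⧸ K₀ := fun k => QuotientGroup.mk (q k)
  have hd : ∀ k < 7, s (d k) = toPerm (pcs.getD k idP) := by
    intro k hk
    show sig N φ (q k).1.1 = _
    simp only [q, if_pos (lt_of_lt_of_le hk seven_le)]
    exact sig_lift he.lifts hk
  have hev : ∀ l : List ℕ, (∀ k ∈ l, k < perms.length) →
      ((evE q l : fib φ φ') : E × E') = (evE e l, evE e' l) := by
    intro l
    induction l with
    | nil => intro _; rfl
    | cons k l ih =>
      intro hl'
      simp only [List.mem_cons, forall_eq_or_imp] at hl'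
      simp only [evE, List.map_cons, List.prod_cons, Subgroup.coe_mul]
      rw [show ((List.map q l).prod : fib φ φ').1 = (evE e l, evE e' l) from ih hl'.2]
      simp only [q, if_pos hl'.1, evE]
      rfl
  have ht : ∀ r < 28, CodeSplit.tail d r = 1 := by
    intro r hr
    obtain ⟨⟨h1, h2⟩, -⟩ := rel_ok (lt_of_lt_of_le hr rels_length)
    obtain ⟨w, hw, hw'⟩ := htail r hr
    have hmap : ∀ l, evE d l = QuotientGroup.mk' K₀ (evE q l) := fun l => by
      rw [evE, evE, map_list_prod, List.map_map]; rfl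
    rw [tail_old d hr, tail, hmap, hmap, ← map_inv, ← map_mul]
    refine (QuotientGroup.eq_one_iff _).2 ⟨Multiplicative.ofAdd w, Subtype.ext ?_⟩
    simp only [Subgroup.coe_mul, InvMemClass.coe_inv, hev _ h1, hev _ h2]
    show (el θ w, el θ' w) = _
    rw [hw, hw']
    rfl
  obtain ⟨K, hKd, hKs⟩ := split_of_tails s hrange hcard hd ht
  let K' : Subgroup (fib φ φ') := K.comap (QuotientGroup.mk' K₀)
  have hfac : ∀ p : fib φ φ', ∃ w : Word, ∃ k ∈ K',
      p = k * ⟨(el θ w, 1), hl w⟩ := by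
    intro p
    have h : (QuotientGroup.mk p : fib φ φ' ⧸ K₀) ∈ K ⊔ s.ker := by rw [hKs]; trivial
    obtain ⟨y, hy, z, hz, hyz⟩ := Subgroup.mem_sup_of_normal_right.1 h
    obtain ⟨w, rfl⟩ := hsurj z hz
    refine ⟨w, p * (⟨(el θ w, 1), hl w⟩ : fib φ φ')⁻¹, ?_, by group⟩
    show (QuotientGroup.mk' K₀) _ ∈ K
    rw [map_mul, map_inv]
    show (QuotientGroup.mk p : fib φ φ' ⧸ K₀) * (left w)⁻¹ ∈ K
    rw [← hyz, mul_inv_cancel_right]
    exact hy
  have hdiagK : ∀ w, dg (Multiplicative.ofAdd w) ∈ K' := fun w => by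
    show (QuotientGroup.mk _ : fib φ φ' ⧸ K₀) ∈ K
    rw [(QuotientGroup.eq_one_iff _).2 (show dg (Multiplicative.ofAdd w) ∈ K₀ from ⟨_, rfl⟩)]
    exact one_mem K
  have htriv : ∀ p : fib φ φ', p ∈ K' → sP p = 1 → p ∈ K₀ := by
    intro p hp h1
    refine (QuotientGroup.eq_one_iff p).1 ((Subgroup.mem_bot).1 ?_)
    rw [← hKd]
    exact Subgroup.mem_inf.2 ⟨hp, h1⟩
  let f : K' →* E := ((MonoidHom.fst E E').comp (fib φ φ').subtype).comp K'.subtype
  let g : K' →* E' := ((MonoidHom.snd E E').comp (fib φ φ').subtype).comp K'.subtype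
  have hf : Function.Bijective f := by
    refine ⟨(injective_iff_map_eq_one f).2 fun ⟨p, hp⟩ h1 => ?_, fun a => ?_⟩
    · have h1' : p.1.1 = 1 := h1
      obtain ⟨u, rfl⟩ := htriv p hp (by show sig N φ p.1.1 = 1; rw [h1', map_one])
      exact Subtype.ext (Subtype.ext (Prod.ext h1' (el'_eq_one H H' h1')))
    · obtain ⟨b, hb⟩ := hover a
      obtain ⟨w, k, hk, hka⟩ := hfac ⟨(a, b), hb⟩
      refine ⟨⟨k * dg (Multiplicative.ofAdd w), mul_mem hk (hdiagK w)⟩, ?_⟩
      exact (congrArg (fun q : fib φ φ' => q.1.1) hka).symm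
  have hg : Function.Bijective g := by
    refine ⟨(injective_iff_map_eq_one g).2 fun ⟨p, hp⟩ h1 => ?_, fun b => ?_⟩
    · have h1' : p.1.2 = 1 := h1
      obtain ⟨u, rfl⟩ := htriv p hp (by
        show sig N φ p.1.1 = 1; rw [mem_fib.1 p.2, h1', map_one])
      exact Subtype.ext (Subtype.ext (Prod.ext (el'_eq_one H' H h1') h1'))
    · obtain ⟨a, ha⟩ := hover' b
      obtain ⟨w, k, hk, hka⟩ := hfac ⟨(a, b), ha⟩
      refine ⟨⟨k, hk⟩, ?_⟩
      have := congrArg (fun q : fib φ φ' => q.1.2) hka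
      simp only [Subgroup.coe_mul, Prod.snd_mul, mul_one] at this
      exact this.symm
  exact ⟨(MulEquiv.ofBijective f hf).symm.trans (MulEquiv.ofBijective g hg)⟩

end Two

end CfsgLib.Golay.CocodeUnique
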