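import Cfsg.Agent.Lib.Golay.CocodeUnique.Tails

/-!
An extension whose lifts of the pc-series of a Sylow 2-subgroup have trivial tails splits.
-/

set_option autoImplicit false

namespace CfsgLib.Golay.CocodeUnique

open Cfsg CfsgLib.Golay CfsgLib.Golay.SylowTwo
open CfsgLib.Golay.Cocode (Word)
open CfsgLib.Golay.CodeSplit (pcs sub evE)
open scoped Pointwise

/-- An extension of the point stabiliser by a commutative 2-group, given by its map to permutations,
splits when lifts of the pc generators satisfy the pc relations. -/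
theorem split_of_tails {D : Type*} [Group D] [Finite D] (s : D →* Equiv.Perm GolayPt)
    (hs : s.range = Spor.M23) [IsMulCommutative s.ker] {a : ℕ} (h2 : Nat.card s.ker ∣ 2 ^ a)
    {e : ℕ → D} (he : ∀ k < 7, s (e k) = toPerm (pcs.getD k idP))
    (ht : ∀ r < 28, CodeSplit.tail e r = 1) : ∃ K : Subgroup D, K ⊓ s.ker = ⊥ ∧ K ⊔ s.ker = ⊤ := by
  classical
  obtain ⟨hpc, hlen⟩ := CodeSplit.pcsOK
  set A := sub e 0 with hA
  have hcard : Nat.card A ≤ 128 := by simpa using CodeSplit.ncard_sub_le ht 7 le_rfl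
  have himg : A.map s = HS pcs := by
    rw [hA, sub, MonoidHom.map_closure, HS]
    congr 1
    ext σ
    constructor
    · rintro ⟨x, ⟨k, -, hk, rfl⟩, rfl⟩
      refine ⟨pcs.getD k idP, ?_, he k hk⟩
      rw [List.getD_eq_getElem _ _ (hlen ▸ hk)]; exact List.getElem_mem _
    · rintro ⟨P, hP, rfl⟩
      obtain ⟨k, hk, rfl⟩ := List.getElem_of_mem hP
      refine ⟨e k, ⟨k, Nat.zero_le _, hlen ▸ hk, rfl⟩, ?_⟩
      rw [he k (hlen ▸ hk), List.getD_eq_getElem _ _ hk]
  have hinj : A ⊓ s.ker = ⊥ := by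
    have h1 : Nat.card (A.map s) = 128 := by rw [himg, card_HS hpc, hlen]; norm_num
    let f : A →* A.map s := s.subgroupMap A
    have hf : Function.Surjective f := MonoidHom.subgroupMap_surjective _ A
    have hbij : Function.Bijective f :=
      ⟨(hf.bijective_of_nat_card_le (by omega)).1, hf⟩
    refine (Subgroup.eq_bot_iff_forall _).2 fun x hx => ?_
    obtain ⟨hxA, hxN⟩ := Subgroup.mem_inf.1 hx
    have h4 : f ⟨x, hxA⟩ = f 1 := Subtype.ext (by
      show s x = s ((1 : A) : D)
      rw [MonoidHom.mem_ker.1 hxN, OneMemClass.coe_one, map_one])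
    exact congrArg Subtype.val (hbij.1 h4)
  set U := (HS pcs).comap s with hU
  have hNU : s.ker ≤ U := fun x hx => by
    rw [hU, Subgroup.mem_comap, MonoidHom.mem_ker.1 hx]; exact one_mem _
  have hKA : s.ker ⊔ A = U := by
    refine le_antisymm (sup_le hNU ?_) fun u hu => ?_
    · rw [hU, ← himg]; exact Subgroup.le_comap_map _ _
    · rw [hU, Subgroup.mem_comap, ← himg] at hu
      obtain ⟨b, hb, hbu⟩ := hu
      rw [show u = u * b⁻¹ * b by group]
      refine mul_mem (Subgroup.mem_sup_left ?_) (Subgroup.mem_sup_right hb)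
      rw [MonoidHom.mem_ker, map_mul, map_inv, hbu, mul_inv_cancel]
  have hle : HS pcs ≤ Spor.M23 := by
    rw [← himg, ← hs]
    rintro _ ⟨b, -, rfl⟩
    exact ⟨b, rfl⟩
  have hindex : U.index = 79695 := by
    rw [hU, Subgroup.index_comap, hs, Subgroup.relIndex]
    have h3 : Nat.card Spor.M23 = 10200960 := by
      have : Spor.M23 = fixH M24 F23 := by
        ext h
        rw [mem_fix23_iff, Spor.M23, Subgroup.mem_inf, MulAction.mem_stabilizer_iff, CodeSplit.pt23]
        rfl
      rw [this]; exact natCard_fix23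
    have h4 := Subgroup.index_mul_card ((HS pcs).subgroupOf Spor.M23)
    rw [Nat.card_congr (Subgroup.subgroupOfEquivOfLe hle).toEquiv, card_HS hpc, hlen, h3] at h4
    norm_num at h4
    omega
  have hcop : (Nat.card s.ker).Coprime U.index := by
    rw [hindex]
    refine Nat.Coprime.coprime_dvd_left h2 ?_
    exact Nat.Coprime.pow_left a (by norm_num)
  obtain ⟨K, hK⟩ := CfsgLib.Gaschutz.exists_complement hNU hcop hinj hKA
  exact ⟨K, by rw [inf_comm]; exact hK.disjoint.eq_bot, by rw [sup_comm]; exact hK.sup_eq_top⟩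

end CfsgLib.Golay.CocodeUnique
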