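import Cfsg.Agent.Lib.Golay.CocodeUnique.Coords

/-!
The tails of normalised lifts satisfy the certified equations, which leave one bit free.
-/

set_option autoImplicit false

namespace CfsgLib.Golay.CocodeUnique

open Cfsg CfsgLib.Golay CfsgLib.Golay.SylowTwo
open CfsgLib.Golay.Cocode (Word)
open CfsgLib.Golay.CodeSplit (basisM pivot xorL selL pos invW reduce comb2 comb2_xor comb2_xorL
  comb2_two_pow comb2_zero comb2_selL sig sig_eq_one evE lval sval sval_append sval_pos sval_invW
  sval_reduce)

attribute [local irreducible] idP toPerm mulP validP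

theorem prm_ok {k : ℕ} (hk : k < perms.length) :
    validP (prm k) = true ∧ toPerm (prm k) ∈ Spor.M23 := by
  have h := rels_ok
  simp only [relsOK, Bool.and_eq_true, List.all_eq_true] at h
  have hP : prm k ∈ perms := by
    rw [prm, List.getD_eq_getElem _ _ hk]; exact List.getElem_mem hk
  obtain ⟨h1, h2⟩ := h.1.1.1.1 _ hP
  refine ⟨?_, Cocode.toPerm_mem_M23 ⟨h1, beq_iff_eq.1 h2⟩⟩
  simp only [inM24, Bool.and_eq_true] at h1
  exact h1.1

theorem seven_le : 7 ≤ perms.length := by
  have h := rels_ok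
  simp only [relsOK, Bool.and_eq_true, decide_eq_true_eq] at h
  exact h.1.1.1.2

theorem rels_length : 28 ≤ rels.length := by
  have h := rels_ok
  simp only [relsOK, Bool.and_eq_true, decide_eq_true_eq] at h
  exact h.1.1.2

theorem relAt_old {r : ℕ} (hr : r < 28) : relAt r = CodeSplit.relAt r := by
  have h := rels_ok
  simp only [relsOK, Bool.and_eq_true, List.all_eq_true, beq_iff_eq] at h
  exact h.1.2 r (List.mem_range.2 hr)

theorem prm_pcs {k : ℕ} (hk : k < 7) : prm k = CodeSplit.pcs.getD k idP := by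
  rw [prm, perms, List.getD_append _ _ _ _ (by rw [CodeSplit.pcsOK.2]; exact hk)]

theorem evP_ok : ∀ {w : List ℕ}, (∀ k ∈ w, k < perms.length) →
    validP (evP w) = true ∧ toPerm (evP w) = (w.map fun k => toPerm (prm k)).prod := by
  intro w
  induction w with
  | nil => intro _; exact ⟨validP_idP, by simp [evP, toPerm_idP]⟩
  | cons k w ih =>
    intro h
    simp only [List.mem_cons, forall_eq_or_imp] at h
    obtain ⟨h1, h2⟩ := ih h.2
    refine ⟨validP_mulP (prm_ok h.1).1 h1, ?_⟩
    rw [evP, toPerm_mulP (prm_ok h.1).1 h1, h2, List.map_cons, List.prod_cons]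

theorem rel_ok {r : ℕ} (hr : r < rels.length) :
    ((∀ k ∈ (relAt r).1, k < perms.length) ∧ ∀ k ∈ (relAt r).2, k < perms.length) ∧
      eqP (evP (relAt r).1) (evP (relAt r).2) = true := by
  have h := rels_ok
  simp only [relsOK, List.all_eq_true, Bool.and_eq_true, decide_eq_true_eq] at h
  exact h.2 _ (by rw [relAt, List.getD_eq_getElem _ _ hr]; exact List.getElem_mem hr)

/-- lifts of the permutations -/
def Lifts {E : Type*} [Group E] {N : Subgroup E} [N.Normal] (φ : E ⧸ N ≃* ↥Spor.M23)
    (e : ℕ → E) : Prop := ∀ k < perms.length, sig N φ (e k) = toPerm (prm k)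

/-- the tail of a relation -/
def tail {E : Type*} [Group E] (e : ℕ → E) (r : ℕ) : E :=
  evE e (relAt r).1 * (evE e (relAt r).2)⁻¹

theorem tail_old {E : Type*} [Group E] (e : ℕ → E) {r : ℕ} (hr : r < 28) :
    CodeSplit.tail e r = tail e r := by
  rw [CodeSplit.tail, tail, relAt_old hr]

/-- the coordinates of all tails -/
noncomputable def xs {E : Type*} [Group E] {N : Subgroup E} (θ : Word →+ Additive ↥N)
    (e : ℕ → E) (v : ℕ) : ZMod 2 := co θ (v % 11) (tail e (v / 11))

theorem xs_at {E : Type*} [Group E] {N : Subgroup E} (θ : Word →+ Additive ↥N) (e : ℕ → E)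
    (r : ℕ) {j : ℕ} (hj : j < 11) : xs θ e (11 * r + j) = co θ j (tail e r) := by
  rw [xs, show (11 * r + j) / 11 = r by omega, show (11 * r + j) % 11 = j by omega]

/-- normalised lifts -/
structure Normal' {E : Type*} [Group E] {N : Subgroup E} [N.Normal] (φ : E ⧸ N ≃* ↥Spor.M23)
    (θ : Word →+ Additive ↥N) (e : ℕ → E) : Prop where
  lifts : Lifts φ e
  piv : ∀ v, pivMask.testBit v = true → xs θ e v = 0

/-- the value of a term -/
def termE {E : Type*} [Group E] (e : ℕ → E) (t : Bool × List ℕ × ℕ) : E :=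
  evE e t.2.1 * (if t.1 then (tail e t.2.2)⁻¹ else tail e t.2.2) * (evE e t.2.1)⁻¹

theorem sval_termW {E : Type*} [Group E] (e : ℕ → E) (t : Bool × List ℕ × ℕ) :
    sval e (termW t) = termE e t := by
  obtain ⟨s, p, r⟩ := t
  cases s <;>
    simp only [termW, termE, tail, if_true, Bool.false_eq_true, if_false, sval_invW, sval_append,
      sval_pos] <;> group

theorem sval_flatMap {E : Type*} [Group E] (e : ℕ → E) :
    ∀ l : List (Bool × List ℕ × ℕ), sval e (l.flatMap termW) = (l.map (termE e)).prod := by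
  intro l
  induction l with
  | nil => simp [sval]
  | cons t l ih => rw [List.flatMap_cons, sval_append, ih, sval_termW, List.map_cons, List.prod_cons]

section Ext

variable {E : Type*} [Group E] {N : Subgroup E} [N.Normal] {φ : E ⧸ N ≃* ↥Spor.M23}
  {θ : Word →+ Additive ↥N} (H : Hyp N φ θ)

theorem sig_evE {e : ℕ → E} (he : Lifts φ e) {w : List ℕ} (hw : ∀ k ∈ w, k < perms.length) :
    sig N φ (evE e w) = toPerm (evP w) := by
  rw [(evP_ok hw).2, evE, map_list_prod, List.map_map]
  exact congrArg List.prod (List.map_congr_left fun k hk => he k (hw k hk))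

theorem tail_mem {e : ℕ → E} (he : Lifts φ e) {r : ℕ} (hr : r < rels.length) : tail e r ∈ N := by
  obtain ⟨⟨h1, h2⟩, h3⟩ := rel_ok hr
  rw [← sig_eq_one (φ := φ), tail, map_mul, map_inv, sig_evE he h1, sig_evE he h2,
    toPerm_eq_of_eqP (evP_ok h1).1 (evP_ok h2).1 h3, mul_inv_cancel]

include H in
theorem pair_prod {m : ℕ} (hm : inB m = true) : ∀ {l : List E}, (∀ x ∈ l, x ∈ N) →
    pair θ m l.prod = (l.map (pair θ m)).sum := by
  intro l
  induction l with
  | nil => intro _; simpa using pair_one H hm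
  | cons a l ih =>
    intro h
    simp only [List.mem_cons, forall_eq_or_imp] at h
    rw [List.prod_cons, pair_mul H hm h.1 (list_prod_mem h.2), ih h.2, List.map_cons, List.sum_cons]

include H in
/-- Every equation holds for the tails of any lifts. -/
theorem eq_zero {e : ℕ → E} (he : Lifts φ e) {q : ℕ × ℕ} (hq : q ∈ eqns) :
    comb2 (11 * rels.length) (xs θ e) (eqRow q) = 0 := by
  have h1 := eqns_ok
  simp only [eqnsOK, List.all_eq_true, Bool.and_eq_true, decide_eq_true_eq] at h1
  obtain ⟨⟨hI, hi⟩, hinv⟩ := h1 q hq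
  set I := idents.getD q.1 [] with hIdef
  have hmem : I ∈ idents := by
    rw [hIdef, List.getD_eq_getElem _ _ hI]; exact List.getElem_mem hI
  have h2 := idents_ok
  simp only [identsOK, List.all_eq_true, Bool.and_eq_true, decide_eq_true_eq,
    List.isEmpty_iff] at h2
  obtain ⟨hred, hb⟩ := h2 I hmem
  have hmid : ∀ t ∈ I, (if t.1 then (tail e t.2.2)⁻¹ else tail e t.2.2) ∈ N := by
    intro t ht
    split
    · exact inv_mem (tail_mem he (hb t ht).1)
    · exact tail_mem he (hb t ht).1
  have hprod : (I.map (termE e)).prod = 1 := by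
    rw [← sval_flatMap, ← sval_reduce, hred]; rfl
  have hB := inB_basis hi
  have hz := congrArg (pair θ (basisM.getD q.2 0)) hprod
  rw [pair_one H hB, pair_prod H hB (by
    intro x hx
    obtain ⟨t, ht, rfl⟩ := List.mem_map.1 hx
    exact ‹N.Normal›.conj_mem _ (hmid t ht) _), List.map_map] at hz
  rw [eqRow, comb2_xorL]
  refine Eq.trans (congrArg List.sum (List.map_congr_left fun t ht => ?_)) hz
  obtain ⟨hr, hp⟩ := hb t ht
  show _ = pair θ (basisM.getD q.2 0) (termE e t)
  rw [termE, pair_conj H hB (evP_ok hp).1 _ (hmid t ht) (sig_evE he hp)]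
  have hv : pair θ (pull (evP t.2.1) (basisM.getD q.2 0))
      (if t.1 then (tail e t.2.2)⁻¹ else tail e t.2.2) =
      pair θ (pull (evP t.2.1) (basisM.getD q.2 0)) (tail e t.2.2) := by
    split
    · exact pair_inv H (hinv t ht) (tail_mem he hr)
    · rfl
  rw [hv, termRow]
  exact comb2_colM (hinv t ht) _ (by omega) (fun j hj => xs_at θ e t.2.2 hj)

include H in
/-- The value of the difference made in a word by a change of lifts. -/
theorem pair_dRow {e : ℕ → E} (he : Lifts φ e) {b : ℕ → E} (hb : ∀ k, b k ∈ N)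
    (hb7 : ∀ k, 7 ≤ k → b k = 1) (c : ℕ → ZMod 2)
    (hc : ∀ k < 7, ∀ j < 11, c (11 * k + j) = co θ j (b k)) :
    ∀ (w : List ℕ) (m : ℕ), (∀ k ∈ w, k < perms.length) → dOK m w = true →
      evE (fun k => b k * e k) w * (evE e w)⁻¹ ∈ N ∧
        pair θ m (evE (fun k => b k * e k) w * (evE e w)⁻¹) = comb2 77 c (dRow m w) := by
  intro w
  induction w with
  | nil => intro m _ hok; simp only [dOK] at hok; simp [evE, dRow, comb2_zero, pair_one H hok]
  | cons k w ih =>
    intro m hw hok
    simp only [List.mem_cons, forall_eq_or_imp] at hw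
    simp only [dOK, Bool.and_eq_true] at hok
    obtain ⟨hm, hrest⟩ := hok
    obtain ⟨hD, hval⟩ := ih (pull (prm k) m) hw.2 hrest
    set D := evE (fun k => b k * e k) w * (evE e w)⁻¹ with hDdef
    have heq : evE (fun k => b k * e k) (k :: w) * (evE e (k :: w))⁻¹ =
        b k * (e k * D * (e k)⁻¹) := by
      simp only [hDdef, evE, List.map_cons, List.prod_cons]; group
    rw [heq]
    have hcn := ‹N.Normal›.conj_mem D hD (e k)
    refine ⟨mul_mem (hb k) hcn, ?_⟩
    rw [pair_mul H hm (hb k) hcn, pair_conj H hm (prm_ok hw.1).1 _ hD (he k hw.1), hval]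
    simp only [dRow, comb2_xor]
    rw [add_left_inj]
    by_cases hk : k < 7
    · rw [if_pos hk, comb2_colM hm c (by omega) (fun j hj => hc k hk j hj)]
    · rw [if_neg hk, hb7 k (not_lt.1 hk), pair_one H hm, comb2_zero]

include H in
/-- Lifts can be normalised. -/
theorem exists_normal : ∃ e : ℕ → E, Normal' φ θ e := by
  classical
  have hex : ∀ k, ∃ x : E, k < perms.length → sig N φ x = toPerm (prm k) := by
    intro k
    by_cases hk : k < perms.length
    · obtain ⟨x, hx⟩ := (φ.toMonoidHom.comp (QuotientGroup.mk' N)).range_eq_top.1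
        (MonoidHom.range_eq_top.2 (φ.surjective.comp (QuotientGroup.mk'_surjective N)))
        ⟨toPerm (prm k), (prm_ok hk).2⟩
      exact ⟨x, fun _ => congrArg Subtype.val hx⟩
    · exact ⟨1, fun h => absurd h hk⟩
  choose e₀ he₀ using hex
  have he : Lifts φ e₀ := he₀
  let c : ℕ → ZMod 2 := fun y => comb2 (11 * rels.length) (xs θ e₀) (shiftRows.getD y 0)
  have hbex : ∀ k, ∃ x ∈ N, (7 ≤ k → x = 1) ∧
      (k < 7 → ∀ j < 11, co θ j x = c (11 * k + j)) := by
    intro k
    by_cases hk : k < 7
    · obtain ⟨x, hx, hxc⟩ := exists_co H fun j => c (11 * k + j)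
      exact ⟨x, hx, fun h => absurd h (not_le.2 hk), fun _ => hxc⟩
    · exact ⟨1, N.one_mem, fun _ => rfl, fun h => absurd h hk⟩
  choose b hb hb7 hbc using hbex
  have he' : Lifts φ (fun k => b k * e₀ k) := fun k hk => by
    rw [map_mul, sig_eq_one.2 (hb k), one_mul, he k hk]
  refine ⟨_, he', fun v hv => ?_⟩
  have h := shift_ok
  simp only [shiftOK, Bool.and_eq_true, List.all_eq_true, List.mem_range, decide_eq_true_eq,
    beq_iff_eq, Bool.or_eq_true, Bool.not_eq_true'] at h
  obtain ⟨⟨hd, hlen⟩, hmask⟩ := h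
  have hv308 : v < 308 := by
    by_contra hge
    rw [Nat.testBit_lt_two_pow (lt_of_lt_of_le hmask
      (Nat.pow_le_pow_right (by norm_num) (not_lt.1 hge)))] at hv
    exact Bool.noConfusion hv
  obtain ⟨r, i, hr, hi, rfl⟩ : ∃ r i, r < 28 ∧ i < 11 ∧ v = 11 * r + i :=
    ⟨v / 11, v % 11, by omega, by omega, by omega⟩
  obtain ⟨⟨hd1, hd2⟩, hsel⟩ := hd r hr i hi
  have hsel' := hsel.resolve_left (by rw [hv]; exact Bool.noConfusion)
  have hrl : r < rels.length := lt_of_lt_of_le hr rels_length
  obtain ⟨⟨hl, hr'⟩, -⟩ := rel_ok hrl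
  have hB := inB_basis hi
  obtain ⟨hA, hAv⟩ := pair_dRow H he hb hb7 c
    (fun k hk j hj => (hbc k hk j hj).symm) _ _ hl hd1
  obtain ⟨hB', hBv⟩ := pair_dRow H he hb hb7 c
    (fun k hk j hj => (hbc k hk j hj).symm) _ _ hr' hd2
  rw [xs_at θ _ r hi, co]
  have ht := tail_mem he hrl
  set A := evE (fun k => b k * e₀ k) (relAt r).1 * (evE e₀ (relAt r).1)⁻¹
  set B := evE (fun k => b k * e₀ k) (relAt r).2 * (evE e₀ (relAt r).2)⁻¹
  have heq : tail (fun k => b k * e₀ k) r = A * (tail e₀ r * B⁻¹) := by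
    simp only [tail, A, B]; group
  rw [heq, pair_mul H hB hA (mul_mem ht (inv_mem hB')), pair_mul H hB ht (inv_mem hB'),
    pair_inv H hB hB', hAv, hBv]
  have hcomb : comb2 77 c (dRow (basisM.getD i 0) (relAt r).1) +
      comb2 77 c (dRow (basisM.getD i 0) (relAt r).2) = pair θ (basisM.getD i 0) (tail e₀ r) := by
    rw [← comb2_xor, show pair θ (basisM.getD i 0) (tail e₀ r) = co θ i (tail e₀ r) from rfl,
      ← xs_at θ e₀ r hi, ← comb2_two_pow (V := 11 * rels.length) (xs θ e₀) (by omega), ← hsel',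
      comb2_selL, hlen]
  rw [add_left_comm, hcomb, CodeSplit.zmod2_add_self]

end Ext

/-- A vector satisfying all equations that vanishes at the pivots and at the free place vanishes. -/
theorem eq_zero_of_free {y : ℕ → ZMod 2}
    (heq : ∀ q ∈ eqns, comb2 (11 * rels.length) y (eqRow q) = 0)
    (hpiv : ∀ v, pivMask.testBit v = true → y v = 0) (hfree : y free = 0) :
    ∀ v < 308, y v = 0 := by
  intro v hv
  have hc := certs_ok
  simp only [certsOK, Bool.and_eq_true, List.all_eq_true, List.mem_range, Bool.or_eq_true,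
    beq_iff_eq, decide_eq_true_eq] at hc
  rcases hc.2 v hv with (hp | hp) | hp
  · exact hpiv v hp
  · rw [hp]; exact hfree
  set z := selL eqRows (certs.getD v 0) ^^^ 2 ^ v with hz
  have h1 : comb2 (11 * rels.length) y (selL eqRows (certs.getD v 0)) = 0 := by
    rw [comb2_selL]
    refine Finset.sum_eq_zero fun i hi => ?_
    have hi' := Finset.mem_range.1 hi
    have hmem : eqRows.getD i 0 ∈ eqRows := by
      rw [List.getD_eq_getElem _ _ hi']; exact List.getElem_mem hi'
    obtain ⟨q, hq, hqe⟩ := List.mem_map.1 hmem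
    split
    · show comb2 _ y (eqRows.getD i 0) = 0
      rw [← hqe]
      exact heq q hq
    · rfl
  have h2 : comb2 (11 * rels.length) y z = 0 := by
    refine Finset.sum_eq_zero fun u _ => ?_
    by_cases hu : z.testBit u
    · rw [if_pos hu]
      have h3 := congrArg (fun m => Nat.testBit m u) hp
      simp only [Nat.testBit_and, hu, Bool.true_and, Nat.testBit_or, Bool.or_eq_true,
        Nat.testBit_two_pow, decide_eq_true_eq] at h3
      rcases h3 with h3 | h3
      · exact hpiv u h3
      · rw [← h3]; exact hfree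
    · rw [if_neg hu]
  rw [hz, comb2_xor, h1, zero_add, comb2_two_pow _ (by have := rels_length; omega)] at h2
  exact h2

theorem comb2_add (V : ℕ) (x y : ℕ → ZMod 2) (X : ℕ) :
    comb2 V (fun v => x v + y v) X = comb2 V x X + comb2 V y X := by
  rw [comb2, comb2, comb2, ← Finset.sum_add_distrib]
  exact Finset.sum_congr rfl fun v _ => by split <;> simp

end CfsgLib.Golay.CocodeUnique
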